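import Cfsg.Agent.HexModel.Main
import Cfsg.Agent.StdRank2.HexRank
import Cfsg.Agent.StdRank2.HexOpp

/-!
# The long root parabolic of `³D₄(q)`, `q` even (helper7, project SM)

`Z`, `Zm` opposite long root groups, `Q = O₂(C(Z)) = q^(1+8)`, `A = C(Z, Zm) = SL₂(q³)`.
-/

set_option autoImplicit false

namespace Cfsg.Agent.SM.D4

open Cfsg Cfsg.Lie Cfsg.Agent.SplitTwo Cfsg.Agent.StdRank2.Hex Cfsg.Agent.StdRank2.Hex.HexTwo
open scoped commutatorElement MatrixGroups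

/-- `θ` is an isomorphism from `SL₂(F)` onto `X ⊔ Y` which sends the two unitriangular groups onto `X` and `Y` -/
structure SlOn (F : Type) [Field F] {T : Type} [Group T] (X Y : Subgroup T) (θ : SL(2, F) →* T) : Prop where
  inj : Function.Injective θ
  range : θ.range = X ⊔ Y
  up : ∀ g, g ∈ X ↔ ∃ m : SL(2, F), (∃ a, (m : Matrix (Fin 2) (Fin 2) F) = !![1, a; 0, 1]) ∧ θ m = g
  lo : ∀ g, g ∈ Y ↔ ∃ m : SL(2, F), (∃ a, (m : Matrix (Fin 2) (Fin 2) F) = !![1, 0; a, 1]) ∧ θ m = g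

/-- the local structure -/
structure Loc (K : Type) [Field K] (q : ℕ) {T : Type} [Group T] (Z Zm Q A : Subgroup T) : Prop where
  cardZ : Nat.card Z = q
  cardQ : Nat.card Q = q ^ 9
  pQ : IsPGroup 2 Q
  cenQ : ∀ g, (∀ y ∈ Q, g * y = y * g) ↔ g ∈ Z
  ZQ : Z ≤ Q
  comQ : ⁅Q, Q⁆ = Z
  sqQ : ∀ y ∈ Q, y * y ∈ Z
  sqZ : ∀ z ∈ Z, z * z = 1
  cenA : ∀ g, g ∈ A ↔ (∀ z ∈ Z, g * z = z * g) ∧ ∀ z ∈ Zm, g * z = z * g
  isoA : ∃ (X Y : Subgroup T) (θ : SL(2, K) →* T), SlOn K X Y θ ∧ X ⊔ Y = A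
  nQ : ∀ a ∈ A, ∀ y ∈ Q, a * y * a⁻¹ ∈ Q
  QZm : ∀ y ∈ Q, (∀ z ∈ Zm, y * z * y⁻¹ ∈ Zm) → y = 1
  cz : ∀ z ∈ Z, z ≠ 1 → Subgroup.centralizer {z} = Q ⊔ A
  irr : ∀ N : Subgroup T, Z ≤ N → N ≤ Q → (∀ a ∈ A, ∀ y ∈ N, a * y * a⁻¹ ∈ N) → N = Z ∨ N = Q
  gen : Q ⊔ Zm = ⊤
  w : ∃ w ∈ Z ⊔ Zm, w * w = 1 ∧ ∀ z, z ∈ Z ↔ w * z * w⁻¹ ∈ Zm
  sl : ∃ (F : Type) (_ : Field F) (θ : SL(2, F) →* T), Nat.card F = q ∧ SlOn F Z Zm θ
  ti : ∀ g, ∀ z ∈ Z, z ≠ 1 → g * z * g⁻¹ ∈ Z → g ∈ Subgroup.normalizer (Z : Set T)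
  tr : ∀ z ∈ Z, ∀ z' ∈ Z, z ≠ 1 → z' ≠ 1 → ∃ g ∈ Z ⊔ Zm, g ∈ Subgroup.normalizer (Zm : Set T) ∧ g * z * g⁻¹ = z'
  nrm : Nat.card ↥(Subgroup.normalizer (Z : Set T) ⊓ Subgroup.normalizer (Zm : Set T)) = Nat.card A * (q - 1)

section hex

variable {E : Type} [Field E] {σ : E ≃+* E} {Γ : Type} [Group Γ] {x : ZMod 12 → E → Γ} (h : HexTwo σ x)

include h

theorem mem4 {g : Γ} : g ∈ gen σ x {4} ↔ ∃ t, σ t = t ∧ g = x 4 t :=
  h.mem_gen_singleton.trans ⟨fun ⟨t, h1, h2⟩ => ⟨t, h1 (by decide), h2⟩, fun ⟨t, h1, h2⟩ => ⟨t, ok_of_fix _ h1, h2⟩⟩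

theorem mem10 {g : Γ} : g ∈ gen σ x {10} ↔ ∃ t, σ t = t ∧ g = x 10 t :=
  h.mem_gen_singleton.trans ⟨fun ⟨t, h1, h2⟩ => ⟨t, h1 (by decide), h2⟩, fun ⟨t, h1, h2⟩ => ⟨t, ok_of_fix _ h1, h2⟩⟩

theorem w10 {t : E} (ht : σ t = t) : nn x 4 * x 10 t * (nn x 4)⁻¹ = x 4 t := h.refl 4 10 (ok_of_fix _ ht)

theorem w4 {t : E} (ht : σ t = t) : nn x 4 * x 4 t * (nn x 4)⁻¹ = x 10 t := h.refl 4 4 (ok_of_fix _ ht)

theorem sq_Q {y : Γ} (hy : y ∈ gen σ x (arc 2 5)) : y * y ∈ gen σ x {4} := by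
  obtain ⟨b, c, d, e, f, hb, hd, hf, rfl⟩ := h.mem_Q1.1 hy
  rw [h.q_mul hb hd hf hb hd hf, h.add_self, h.add_self, h.add_self e, h.add_self f, h.q4]
  exact (mem4 h).2 ⟨_, by rw [map_add, map_add, map_add, map_mul, hd, hb, hf, h.fix_trc], rfl⟩

/-- the irreducibility of `Q / Z` -/
theorem irr_Q (hne : ∃ c, σ c ≠ c) {N : Subgroup Γ} (h1 : gen σ x {4} ≤ N) (h2 : N ≤ gen σ x (arc 2 5))
    (h3 : ∀ a ∈ gen σ x {1, 1 + 6}, ∀ y ∈ N, a * y * a⁻¹ ∈ N) : N = gen σ x {4} ∨ N = gen σ x (arc 2 5) := by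
  have z : σ (0 : E) = 0 := map_zero σ
  let W : E → E → E → E → Prop := fun b c e f => σ b = b ∧ σ f = f ∧ q x b c 0 e f ∈ N
  have w0 : ∀ {b c d e f}, σ b = b → σ d = d → σ f = f → (q x b c d e f ∈ N ↔ q x b c 0 e f ∈ N) := fun {b c d e f} hb hd hf => by
    have e1 := h.q_mul (c := 0) (e := 0) (c' := c) (e' := e) z hd z hb z hf
    simp only [zero_add, add_zero, mul_zero, trc_zero_right] at e1
    rw [← e1, h.q4, N.mul_mem_cancel_left (h1 ((mem4 h).2 ⟨_, hd, rfl⟩))]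
  have wa : ∀ {b c e f b' c' e' f'}, W b c e f → W b' c' e' f' → W (b + b') (c + c') (e + e') (f + f') :=
    fun {b c e f b' c' e' f'} ⟨k1, k2, k3⟩ ⟨l1, l2, l3⟩ => by
      have k4 : σ (b + b') = b + b' := by rw [map_add, k1, l1]
      have k5 : σ (f + f') = f + f' := by rw [map_add, k2, l2]
      have k6 := N.mul_mem k3 l3
      rw [h.q_mul k1 z k2 l1 z l2] at k6
      exact ⟨k4, k5, (w0 k4 (by rw [map_add, map_add, map_add, map_mul, z, l1, k2, h.fix_trc]) k5).1 k6⟩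
  have ws : ∀ {b c e f}, W b c e f → W f e c b := fun {b c e f} ⟨k1, k2, k3⟩ => by
    have k4 := h3 _ (nn_mem_gen (k := 1) (Or.inl rfl) (Or.inr rfl)) _ k3
    rw [h.nn1_q k1 z k2, mul_inv_cancel_right] at k4
    exact ⟨k2, k1, (w0 k2 (by rw [map_add, map_add, map_mul, z, k1, k2, h.fix_trc]) k1).1 k4⟩
  have wu : ∀ {b c e f} (a : E), W b c e f →
      W (trc σ a c + trc σ (shp σ a) e + f * nrm σ a) (crs σ a e + f * shp σ a) (f * a) 0 := fun {b c e f} a k => by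
    obtain ⟨k1, k2, k3⟩ := id k
    have k4 := h3 _ (x_mem_gen (k := 1) (Or.inl rfl) (ok1 a)) _ k3
    have k5 : σ (b + trc σ a c + trc σ (shp σ a) e + f * nrm σ a) = b + trc σ a c + trc σ (shp σ a) e + f * nrm σ a := by
      rw [map_add, map_add, map_add, map_mul, k1, k2, h.fix_trc, h.fix_trc, h.fix_nrm]
    rw [h.x1_q a k1 z k2, mul_inv_cancel_right, w0 k5 (by
      simp only [map_add, map_mul, map_pow, z, k2, h.fix_trc, h.fix_nrm]) k2] at k4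
    have k6 := wa k ⟨k5, k2, k4⟩
    have t := h.two
    convert k6 using 1
    · linear_combination (-b) * t
    · linear_combination (-c) * t
    · linear_combination (-e) * t
    · linear_combination (-f) * t
  obtain ⟨y, hy⟩ := hne
  have hc : ∀ {b c}, c ≠ 0 → W b c 0 0 → N = gen σ x (arc 2 5) := fun {b c} hc k => by
    have k2 : ∀ t, σ t = t → W t 0 0 0 := fun t ht => by
      have k3 := wu (t / c) k
      rwa [trc_comm, h.trc_div hc ht, trc_zero_right, crs_zero_right, zero_mul, zero_mul, zero_mul, add_zero, add_zero,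
        add_zero] at k3
    have k3 : ∀ a, W 0 (shp σ a) a 0 := fun a => by
      have k4 := wa (wu a (ws (k2 1 (map_one σ)))) (k2 _ (h.fix_nrm a))
      rwa [trc_zero_right, trc_zero_right, crs_zero_right, one_mul, one_mul, one_mul, zero_add, zero_add, zero_add,
        h.add_self, add_zero, add_zero] at k4
    have k4 : ∀ a a', W 0 (crs σ a a') 0 0 := fun a a' => by
      have t := h.two
      convert wa (wa (k3 a) (k3 a')) (k3 (a + a')) using 1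
      · simp
      · simp only [crs, shp, map_add]
        linear_combination (-(σ a * σ (σ a)) - σ a' * σ (σ a')) * t
      · linear_combination (-a - a') * t
      · simp
    have k5 : ∀ c, W 0 c 0 0 := fun c => by
      by_cases h0 : c = 0
      · rw [h0]
        exact k2 0 z
      have h4 : (y + σ y) / c ≠ 0 := div_ne_zero (fun k => hy ((eq_neg_of_add_eq_zero_right k).trans (h.neg_eq y))) h0
      have h5 := h.crs_solve (c := c) h4 (by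
        have t := h.two
        rw [trc, div_mul_cancel₀ _ h0, map_add, map_add, h.cube]
        linear_combination (y + σ y + σ (σ y)) * t)
      exact h5 ▸ k4 _ _
    refine le_antisymm h2 fun g hg => ?_
    obtain ⟨b, c, d, e, f, hb, hd, hf, rfl⟩ := h.mem_Q1.1 hg
    have k6 := wa (wa (k2 b hb) (k5 c)) (wa (ws (k5 e)) (ws (k2 f hf)))
    simp only [add_zero, zero_add] at k6
    exact (w0 hb hd hf).2 k6.2.2
  have he : ∀ {b c e}, e ≠ 0 → W b c e 0 → N = gen σ x (arc 2 5) := fun {b c e} he k => by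
    have k1 := wu (y * e) k
    rw [zero_mul, zero_mul, zero_mul, add_zero, add_zero] at k1
    refine hc (fun m => hy (σ.injective ?_)) k1
    have t := h.two
    simp only [crs, map_mul] at m
    have k2 : σ e * σ (σ e) ≠ 0 := mul_ne_zero ((map_ne_zero σ).2 he) ((map_ne_zero σ).2 ((map_ne_zero σ).2 he))
    exact mul_right_cancel₀ k2 (by linear_combination m - σ y * σ e * σ (σ e) * t)
  have hf : ∀ {b c e f}, f ≠ 0 → W b c e f → N = gen σ x (arc 2 5) := fun {b c e f} hf k =>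
    he (mul_ne_zero hf one_ne_zero) (wu 1 k)
  refine or_iff_not_imp_right.2 fun hN => le_antisymm (fun g hg => ?_) h1
  obtain ⟨b, c, d, e, f, hb, hd, hf', rfl⟩ := h.mem_Q1.1 (h2 hg)
  have k : W b c e f := ⟨hb, hf', (w0 hb hd hf').1 hg⟩
  obtain rfl : f = 0 := by_contra fun m => hN (hf m k)
  obtain rfl : e = 0 := by_contra fun m => hN (he m k)
  obtain rfl : c = 0 := by_contra fun m => hN (hc m k)
  obtain rfl : b = 0 := by_contra fun m => hN (hf m (ws k))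
  rw [h.q4]
  exact (mem4 h).2 ⟨_, hd, rfl⟩

theorem gen_top : AA σ x ≤ gen σ x (arc 2 5) ⊔ gen σ x {10} := by
  set M := gen σ x (arc 2 5) ⊔ gen σ x {10}
  have h1 : ∀ k : ZMod 12, (k - 2).val < 5 → ∀ a, Ok σ k a → x k a ∈ M := fun k hk a ha => Subgroup.mem_sup_left (x_mem_gen hk ha)
  have h2 : ∀ c k : ZMod 12, nn x c ∈ M → (∀ a, Ok σ k a → x k a ∈ M) → ∀ a, Ok σ (2 * c + 6 - k) a → x (2 * c + 6 - k) a ∈ M :=
    fun c k hc hk a ha => by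
      have h3 := ha.congr (val_refl c k).symm
      rw [← h.refl c k h3]
      exact M.mul_mem (M.mul_mem hc (hk a h3)) (M.inv_mem hc)
  have h4 : nn x 4 ∈ M := M.mul_mem (M.mul_mem (h1 4 (by decide) _ (ok_one σ _))
    (Subgroup.mem_sup_right ((mem10 h).2 ⟨_, map_one σ, rfl⟩))) (h1 4 (by decide) _ (ok_one σ _))
  have h8 := h2 4 6 h4 (h1 6 (by decide))
  have h9 := h2 4 5 h4 (h1 5 (by decide))
  have h5 : nn x 2 ∈ M := M.mul_mem (M.mul_mem (h1 2 (by decide) _ (ok_one σ _)) (h8 _ (ok_one σ _)))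
    (h1 2 (by decide) _ (ok_one σ _))
  refine gen_le fun k _ => ?_
  have h6 : ∀ k : ZMod 12, (k - 2).val < 5 ∨ k = 2 * 2 + 6 - 3 ∨ k = 2 * 2 + 6 - (2 * 4 + 6 - 5) ∨
      ∃ l : ZMod 12, (l - 2).val < 5 ∧ k = 2 * 4 + 6 - l := by decide
  rcases h6 k with k1 | rfl | rfl | ⟨l, k1, rfl⟩
  · exact h1 k k1
  · exact h2 2 3 h5 (h1 3 (by decide))
  · exact h2 2 _ h5 h9
  · exact h2 4 l h4 (h1 l k1)

theorem A_comm4 {a : Γ} (ha : a ∈ gen σ x {1, 1 + 6}) {t : E} (ht : σ t = t) : a * x 4 t = x 4 t * a :=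
  (h.comm_gen_long (k := 4) (by decide) (ok_of_fix _ ht) (gen_mono (by rintro _ (rfl | rfl) <;> rw [mem_arc] <;> decide) ha)).symm.eq

theorem A_comm10 {a : Γ} (ha : a ∈ gen σ x {1, 1 + 6}) {t : E} (ht : σ t = t) : a * x 10 t = x 10 t * a :=
  (h.comm_gen_long (k := 10) (by decide) (ok_of_fix _ ht) (gen_mono (by rintro _ (rfl | rfl) <;> rw [mem_arc] <;> decide) ha)).symm.eq

variable [Finite E]

/-- the action of the normaliser of `Z` -/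
theorem act4 {g : Γ} (hg : g ∈ AA σ x) {t t' : E} (ht : σ t = t) (ht' : σ t' = t') (h0 : t ≠ 0)
    (e : g * x 4 t * g⁻¹ = x 4 t') : ∃ b, b ≠ 0 ∧ σ b = b ∧ ∀ s, σ s = s → g * x 4 s * g⁻¹ = x 4 (b * s) := by
  obtain ⟨p, hp, b, h1, h2, -, rfl⟩ := h.long_transport hg ht ht' h0 e
  refine ⟨b, h1, h2, fun s hs => ?_⟩
  have h3 : hh x 6 b * x 4 s * (hh x 6 b)⁻¹ = x 4 (b * s) := h.tor6 b h1 h2 4 s (ok_of_fix _ hs)
  have h4 := h.comm_gen_long (k := 4) (by decide) (ok_of_fix 4 (by rw [map_mul, h2, hs] : σ (b * s) = b * s)) hp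
  rw [mul_inv_rev, ← mul_assoc, mul_assoc p, mul_assoc p, h3, ← h4.eq, mul_inv_cancel_right]

theorem eq_one_of_Q {y : Γ} (hy : y ∈ gen σ x (arc 2 5)) {t : E} (ht : σ t = t) (e : y * x 10 1 * y⁻¹ = x 10 t) : y = 1 := by
  have h1 : nn x 4 * y * (nn x 4)⁻¹ ∈ gen σ x (arc 8 5) := h.nn_conj_gen 4 (by
    have : ∀ l : ZMod 12, (l - 2).val < 5 → (2 * 4 + 6 - l - 8).val < 5 := by decide
    exact this) hy
  set v := nn x 4 * y * (nn x 4)⁻¹ with hv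
  have h2 : v * x 4 1 * v⁻¹ = x 4 t := by
    rw [← w10 h ht, ← w10 h (map_one σ), ← e, hv]
    group
  obtain ⟨b, -, h3, h4⟩ := act4 h (gen_le_AA _ h1) (map_one σ) ht one_ne_zero h2
  have h5 : v * v * (v * v) = 1 := by
    obtain ⟨s, hs, k⟩ := (mem4 h).1 (sq_Q h hy)
    have k1 : v * v = nn x 4 * (y * y) * (nn x 4)⁻¹ := by rw [hv]; group
    rw [k1, k, w4 h hs, h.x_sq (ok_of_fix _ hs)]
  have h6 : ∀ {s}, σ s = s → σ (b * s) = b * s := fun hs => by rw [map_mul, h3, hs]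
  have h7 : x 4 (b * (b * (b * (b * 1)))) = x 4 1 := by
    rw [← h4 _ (h6 (h6 (h6 (map_one σ)))), ← h4 _ (h6 (h6 (map_one σ))), ← h4 _ (h6 (map_one σ)), ← h4 _ (map_one σ)]
    calc _ = v * v * (v * v) * x 4 1 * (v * v * (v * v))⁻¹ := by group
      _ = _ := by rw [h5, one_mul, inv_one, mul_one]
  rw [h.x_inj (ok_of_fix _ (h6 (h6 (h6 (h6 (map_one σ)))))) (ok_one σ _)] at h7
  have h8 : b = 1 := h.sq_eq_one (h.sq_eq_one (by linear_combination h7))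
  have h9 := (h.mem_centralizer_x4 (gen_le_AA _ h1) (map_one σ) one_ne_zero).1 (by rw [h4 1 (map_one σ), h8, one_mul])
  obtain ⟨a, ha, h10⟩ := h.mem_gen_singleton.1 (h.mem_X7 (gen_mono (arc_succ_sub (k := 7) (by norm_num)) h1) h9)
  rw [h10] at h1
  rw [h.mem_first_eq_zero ha h1, h.x_zero, hv, mul_inv_eq_one, mul_eq_left] at h10
  exact h10

theorem mem_A {g : Γ} (hg : g ∈ AA σ x) (h1 : g * x 4 1 * g⁻¹ = x 4 1) {t : E} (ht : σ t = t) (h2 : g * x 10 1 * g⁻¹ = x 10 t) :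
    g ∈ gen σ x {1, 1 + 6} := by
  obtain ⟨y, hy, l, hl, rfl⟩ := (h.mem_P 1).1 ((h.mem_centralizer_x4 hg (map_one σ) one_ne_zero).1 h1)
  rw [mul_assoc y, A_comm10 h hl (map_one σ), mul_inv_rev, ← mul_assoc, ← mul_assoc, mul_inv_cancel_right] at h2
  rwa [eq_one_of_Q h hy ht h2, one_mul]

theorem slOn {k : ZMod 12} {K : Type} [Field K] {ι : K →+* E} (P : Par σ k ι) :
    ∃ θ : SL(2, K) →* Γ, SlOn K (gen σ x {k}) (gen σ x {k + 6}) θ := by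
  have := h.charP_of ι
  obtain ⟨θ, h1, h2, -, -, h3, h4⟩ := h.exists_sl P
  have h5 : ∀ a : K, ((loU a : SL(2, K)) : Matrix (Fin 2) (Fin 2) K) = !![1, 0; a, 1] := fun a => by
    show !![(0 : K), 1; 1, 0] * !![1, a; 0, 1] * !![0, 1; 1, 0] = _
    simp
  refine ⟨θ, h1, h4.trans (le_antisymm (gen_le ?_) (sup_le (gen_mono ?_) (gen_mono ?_))), fun g => h.mem_gen_singleton.trans
    ⟨fun ⟨a, k1, k2⟩ => ?_, ?_⟩, fun g => h.mem_gen_singleton.trans ⟨fun ⟨a, k1, k2⟩ => ?_, ?_⟩⟩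
  · rintro _ (rfl | rfl) a ha
    · exact Subgroup.mem_sup_left (x_mem_gen (Set.mem_singleton _) ha)
    · exact Subgroup.mem_sup_right (x_mem_gen (Set.mem_singleton _) ha)
  · rintro _ rfl
    exact Or.inl rfl
  · rintro _ rfl
    exact Or.inr rfl
  · obtain ⟨b, rfl⟩ := P.surj a k1
    exact ⟨_, ⟨b, rfl⟩, (h2 b).trans k2.symm⟩
  · rintro ⟨m, ⟨a, k1⟩, rfl⟩
    exact ⟨ι a, P.ok a, by rw [← h2, show m = SuzukiRankOne.SLTwoRel.U a from Subtype.ext k1]⟩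
  · obtain ⟨b, rfl⟩ := P.surj a (k1.congr (val_add_6 k).symm)
    exact ⟨_, ⟨b, h5 b⟩, (h3 b).trans k2.symm⟩
  · rintro ⟨m, ⟨a, k1⟩, rfl⟩
    exact ⟨ι a, (P.ok a).congr (val_add_6 k), by rw [← h3, show m = loU a from Subtype.ext (k1.trans (h5 a).symm)]⟩

theorem hh4 {b s : E} (h0 : b ≠ 0) (hb : σ b = b) (hs : σ s = s) : hh x 4 b * x 4 s * (hh x 4 b)⁻¹ = x 4 (b ^ 2 * s) :=
  h.tor 4 4 h0 (ok_of_fix _ hb) (ok_of_fix _ hs)

theorem hh10 {b s : E} (h0 : b ≠ 0) (hb : σ b = b) (hs : σ s = s) : hh x 4 b * x 10 s * (hh x 4 b)⁻¹ = x 10 ((b ^ 2)⁻¹ * s) :=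
  h.tor 4 10 h0 (ok_of_fix _ hb) (ok_of_fix _ hs)

theorem hh_nrm [Finite Γ] {b : E} (h0 : b ≠ 0) (hb : σ b = b) (k : ZMod 12) :
    hh x 4 b ∈ Subgroup.normalizer (gen σ x {k} : Set Γ) :=
  Subgroup.mem_normalizer_fintype fun _ hy => h.H_conj_gen (h.hh_mem_H 4 h0 (ok_of_fix _ hb)) _ hy

theorem card_nrm [Finite Γ] (htop : AA σ x = ⊤) :
    Nat.card ↥(Subgroup.normalizer (gen σ x {4} : Set Γ) ⊓ Subgroup.normalizer (gen σ x {10} : Set Γ)) =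
      Nat.card (gen σ x {1, 1 + 6}) * (Nat.card (Fix σ) - 1) := by
  have h0 : ∀ b : (Fix σ)ˣ, ((b : Fix σ) : E) ≠ 0 := fun b k => b.ne_zero (Subtype.ext k)
  have h1 : ∀ a ∈ gen σ x {1, 1 + 6}, a ∈ Subgroup.normalizer (gen σ x {4} : Set Γ) ⊓
      Subgroup.normalizer (gen σ x {10} : Set Γ) := fun a ha =>
    ⟨Subgroup.mem_normalizer_fintype fun y hy => by
      obtain ⟨t, ht, rfl⟩ := (mem4 h).1 hy
      rwa [A_comm4 h ha ht, mul_inv_cancel_right], Subgroup.mem_normalizer_fintype fun y hy => by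
      obtain ⟨t, ht, rfl⟩ := (mem10 h).1 hy
      rwa [A_comm10 h ha ht, mul_inv_cancel_right]⟩
  rw [← Nat.card_units, ← Nat.card_prod]
  refine (Nat.card_eq_of_bijective (fun p : gen σ x {1, 1 + 6} × (Fix σ)ˣ => (⟨p.1 * hh x 4 (p.2 : Fix σ), Subgroup.mul_mem _
    (h1 _ p.1.2) ⟨hh_nrm h (h0 _) (p.2 : Fix σ).2 4, hh_nrm h (h0 _) (p.2 : Fix σ).2 10⟩⟩ :
      ↥(Subgroup.normalizer (gen σ x {4} : Set Γ) ⊓ Subgroup.normalizer (gen σ x {10} : Set Γ)))) ⟨?_, ?_⟩).symm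
  · rintro ⟨a, b⟩ ⟨a', b'⟩ e
    have e1 : (a : Γ) * hh x 4 (b : Fix σ) = a' * hh x 4 (b' : Fix σ) := congrArg Subtype.val e
    have e2 : ∀ (a : gen σ x {1, 1 + 6}) (b : (Fix σ)ˣ), (a : Γ) * hh x 4 (b : Fix σ) * x 4 1 * ((a : Γ) * hh x 4 (b : Fix σ))⁻¹ =
        x 4 (((b : Fix σ) ^ 2 : Fix σ) * 1) := fun a b => by
      rw [mul_inv_rev, ← mul_assoc, mul_assoc (a : Γ), mul_assoc (a : Γ), hh4 h (h0 b) (b : Fix σ).2 (map_one σ),
        A_comm4 h a.2 (by rw [mul_one]; exact ((b : Fix σ) ^ 2).2), mul_inv_cancel_right]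
      rfl
    have e3 := e2 a b
    rw [e1, e2, mul_one, mul_one, h.x_inj (ok_of_fix _ ((b' : Fix σ) ^ 2).2) (ok_of_fix _ ((b : Fix σ) ^ 2).2)] at e3
    have e4 : ((b : Fix σ) : E) = (b' : Fix σ) := by
      have t := h.two
      refine sub_eq_zero.1 (pow_eq_zero_iff two_ne_zero |>.1 ?_)
      push_cast at e3
      linear_combination e3 + (((b : Fix σ) : E) ^ 2 - (b : Fix σ) * (b' : Fix σ)) * t
    rw [e4, mul_left_inj] at e1
    exact Prod.ext (Subtype.ext e1) (Units.ext (Subtype.ext e4))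
  · rintro ⟨g, k1, k2⟩
    obtain ⟨t, ht, k3⟩ := (mem4 h).1 ((Subgroup.mem_normalizer_iff.1 k1 _).1 ((mem4 h).2 ⟨1, map_one σ, rfl⟩))
    obtain ⟨s, hs⟩ := h.exists_sqrt t
    have k4 : σ s = s := h.sqrt_fix hs ht
    have k5 : s ≠ 0 := fun k => by
      rw [← hs, k, mul_zero, h.x_zero, mul_inv_eq_one, mul_eq_left, h.x_eq_one (ok_one σ _)] at k3
      exact one_ne_zero k3
    have k8 : (hh x 4 s)⁻¹ * g ∈ gen σ x {1, 1 + 6} := by
      have k9 := Subgroup.mul_mem _ (Subgroup.inv_mem _ (hh_nrm h k5 k4 10)) k2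
      obtain ⟨u, hu, k7⟩ := (mem10 h).1 ((Subgroup.mem_normalizer_iff.1 k9 _).1 ((mem10 h).2 ⟨1, map_one σ, rfl⟩))
      refine mem_A h (htop ▸ Subgroup.mem_top _) ?_ hu k7
      have k10 := hh4 h k5 k4 (map_one σ)
      rw [mul_one, sq, hs, ← k3] at k10
      calc _ = (hh x 4 s)⁻¹ * (g * x 4 1 * g⁻¹) * hh x 4 s := by group
        _ = _ := by rw [← k10]; group
    have k9 : Commute (hh x 4 s) ((hh x 4 s)⁻¹ * g) := by
      have k10 : ∀ t, σ t = t → Commute (x 4 t) ((hh x 4 s)⁻¹ * g) := fun t ht => (A_comm4 h k8 ht).symm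
      have k11 : ∀ t, σ t = t → Commute (x (4 + 6) t) ((hh x 4 s)⁻¹ * g) := fun t ht => (A_comm10 h k8 ht).symm
      exact (((k10 s k4).mul_left (k11 _ (by rw [map_inv₀, k4]))).mul_left (k10 s k4)).mul_left
        (((k10 1 (map_one σ)).mul_left (k11 1 (map_one σ))).mul_left (k10 1 (map_one σ)))
    exact ⟨(⟨_, k8⟩, Units.mk0 ⟨s, k4⟩ fun k => k5 (congrArg Subtype.val k)), Subtype.ext (by
      show (hh x 4 s)⁻¹ * g * hh x 4 s = g
      rw [← k9.eq, mul_inv_cancel_left])⟩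

theorem loc [Finite Γ] (htop : AA σ x = ⊤) (hne : ∃ c, σ c ≠ c) {q : ℕ} (h1 : Nat.card {c : E // σ c = c} = q)
    (h2 : Nat.card E = q ^ 3) : Loc E q (gen σ x {4}) (gen σ x {10}) (gen σ x (arc 2 5)) (gen σ x {1, 1 + 6}) := by
  have hA : ∀ g, g ∈ AA σ x := fun g => htop ▸ Subgroup.mem_top g
  have hZ : gen σ x {4} ≤ gen σ x (arc 2 5) := gen_mono (by rintro _ rfl; rw [mem_arc]; decide)
  have hF : Nat.card (Fix σ) = q := h1
  have n4 : ∀ {t}, σ t = t → x 4 t ≠ 1 → t ≠ 0 := fun _ k m => k (by rw [m, h.x_zero])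
  refine ⟨?_, ?_, h.isPGroup_U.to_le (gen_mono (arc_succ_sub (k := 1) (by norm_num))), fun g => ⟨fun k => h.mem_X4_of (hA g) k, ?_⟩,
    hZ, le_antisymm (Subgroup.commutator_le.2 fun _ k1 _ k2 => h.comm_Q1 (k := 4) (by decide) k1 k2) fun g hg => ?_,
    fun _ => sq_Q h, fun z hz => ?_, fun g => ⟨fun k => ⟨fun z hz => ?_, fun z hz => ?_⟩, fun k => ?_⟩, ?_,
    fun a ha y hy => h.L_conj 1 ha hy, fun y hy k => ?_, fun z hz k => ?_, fun N => irr_Q h hne,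
    eq_top_iff.2 (htop ▸ gen_top h), ⟨nn x 4, ?_, h.nn_sq 4, fun z => ⟨fun k => ?_, fun k => ?_⟩⟩, ?_, fun g z hz k1 k2 => ?_,
    fun z hz z' hz' k1 k2 => ?_, hF ▸ card_nrm h htop⟩
  · rw [← h1]
    refine (Nat.card_eq_of_bijective (fun t : {c : E // σ c = c} => (⟨x 4 t, (mem4 h).2 ⟨_, t.2, rfl⟩⟩ : gen σ x {4}))
      ⟨fun s t e => Subtype.ext ((h.x_inj (ok_of_fix 4 s.2) (ok_of_fix 4 t.2)).1 (congrArg Subtype.val e)), fun g => ?_⟩).symm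
    obtain ⟨t, ht, k⟩ := (mem4 h).1 g.2
    exact ⟨⟨t, ht⟩, Subtype.ext k.symm⟩
  · rw [h.card_arc_succ 2 (n := 4) (by norm_num), h.card_arc_succ _ (n := 3) (by norm_num), h.card_arc_succ _ (n := 2) (by norm_num),
      h.card_arc_succ _ (n := 1) (by norm_num), h.card_arc_succ _ (n := 0) (by norm_num), gen_arc_zero, Subgroup.card_bot,
      card_ok_even (by decide), card_ok_odd (by decide), card_ok_even (by decide), card_ok_odd (by decide),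
      card_ok_even (by decide), h1, h2]
    ring
  · intro k y hy
    obtain ⟨t, ht, rfl⟩ := (mem4 h).1 k
    exact (h.comm_gen_long (k := 4) (by decide) (ok_of_fix _ ht) (gen_mono (by
      have : ∀ l : ZMod 12, (l - 2).val < 5 → (l - (4 - 3)).val < 7 := by decide
      exact this) hy)).eq
  · obtain ⟨t, ht, rfl⟩ := (mem4 h).1 hg
    have k := h.commL4 (k := 2) (by decide) ht (map_one σ)
    rw [mul_one] at k
    exact k ▸ Subgroup.commutator_mem_commutator (x_mem_gen (by rw [mem_arc]; decide) (ok_of_fix _ ht))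
      (x_mem_gen (by rw [mem_arc]; decide) (ok_one σ _))
  · obtain ⟨t, ht, rfl⟩ := (mem4 h).1 hz
    exact h.x_sq (ok_of_fix _ ht)
  · obtain ⟨t, ht, rfl⟩ := (mem4 h).1 hz
    exact A_comm4 h k ht
  · obtain ⟨t, ht, rfl⟩ := (mem10 h).1 hz
    exact A_comm10 h k ht
  · exact mem_A h (hA g) (by rw [k.1 _ ((mem4 h).2 ⟨1, map_one σ, rfl⟩), mul_inv_cancel_right]) (map_one σ)
      (by rw [k.2 _ ((mem10 h).2 ⟨1, map_one σ, rfl⟩), mul_inv_cancel_right])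
  · obtain ⟨θ, k⟩ := slOn h (Par.odd (k := 1) (by decide))
    refine ⟨_, _, θ, k, le_antisymm (sup_le (gen_mono ?_) (gen_mono ?_)) (gen_le ?_)⟩
    · rintro _ rfl
      exact Or.inl rfl
    · rintro _ rfl
      exact Or.inr rfl
    · rintro _ (rfl | rfl) a ha
      · exact Subgroup.mem_sup_left (x_mem_gen (Set.mem_singleton _) ha)
      · exact Subgroup.mem_sup_right (x_mem_gen (Set.mem_singleton _) ha)
  · obtain ⟨t, ht, m⟩ := (mem10 h).1 (k _ ((mem10 h).2 ⟨1, map_one σ, rfl⟩))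
    exact eq_one_of_Q h hy ht m
  · obtain ⟨t, ht, rfl⟩ := (mem4 h).1 hz
    ext g
    rw [Subgroup.mem_centralizer_singleton_iff, ← mul_inv_eq_iff_eq_mul, h.mem_centralizer_x4 (hA g) ht (n4 ht k)]
    refine ⟨fun m => ?_, fun m => (sup_le (gen_mono ?_) (gen_mono ?_) : _ ≤ gen σ x (arc 1 7)) m⟩
    · obtain ⟨y, hy, l, hl, rfl⟩ := (h.mem_P 1).1 m
      exact Subgroup.mul_mem_sup hy hl
    · have : ∀ l : ZMod 12, (l - 2).val < 5 → (l - 1).val < 7 := by decide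
      exact this
    · rintro _ (rfl | rfl) <;> rw [mem_arc] <;> decide
  · exact nn_mem_sup 4
  · obtain ⟨t, ht, rfl⟩ := (mem4 h).1 k
    exact (mem10 h).2 ⟨t, ht, w4 h ht⟩
  · obtain ⟨t, ht, m⟩ := (mem10 h).1 k
    rw [← w4 h ht, mul_left_inj, mul_right_inj] at m
    exact (mem4 h).2 ⟨t, ht, m⟩
  · obtain ⟨θ, k⟩ := slOn h (Par.even (k := 4) (by decide))
    exact ⟨Fix σ, inferInstance, θ, hF, k⟩
  · obtain ⟨t, ht, rfl⟩ := (mem4 h).1 hz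
    obtain ⟨t', ht', m⟩ := (mem4 h).1 k2
    obtain ⟨b, -, hb, m1⟩ := act4 h (hA g) ht ht' (n4 ht k1) m
    refine Subgroup.mem_normalizer_fintype fun y hy => ?_
    obtain ⟨s, hs, rfl⟩ := (mem4 h).1 hy
    exact (mem4 h).2 ⟨_, by rw [map_mul, hb, hs], m1 s hs⟩
  · obtain ⟨t, ht, rfl⟩ := (mem4 h).1 hz
    obtain ⟨t', ht', rfl⟩ := (mem4 h).1 hz'
    obtain ⟨s, hs⟩ := h.exists_sqrt (t' / t)
    have m1 : σ s = s := h.sqrt_fix hs (by rw [map_div₀, ht, ht'])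
    have m2 : s ≠ 0 := fun k => div_ne_zero (n4 ht' k2) (n4 ht k1) (by rw [← hs, k, mul_zero])
    refine ⟨hh x 4 s, Subgroup.mul_mem _ (Subgroup.mul_mem _ (Subgroup.mul_mem_sup ((mem4 h).2 ⟨s, m1, rfl⟩)
      ((mem10 h).2 ⟨s⁻¹, by rw [map_inv₀, m1], rfl⟩)) (Subgroup.mem_sup_left ((mem4 h).2 ⟨s, m1, rfl⟩))) (nn_mem_sup 4),
      hh_nrm h m2 m1 10, ?_⟩
    rw [hh4 h m2 m1 ht, sq, hs, div_mul_cancel₀ _ (n4 ht k1)]

end hex

/-- **The local structure of `³D₄(2^a)`.** -/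
theorem exists_loc {K : Type} [Field K] [Fintype K] {a : ℕ} (ha : 1 ≤ a) (hK : Fintype.card K = (2 ^ a) ^ 3) {T : Type} [Group T]
    [Finite T] (e : T ≃* ↥(twistedD4 K (2 ^ a))) : ∃ Z Zm Q A : Subgroup T, Loc K (2 ^ a) Z Zm Q A := by
  have h8 : Fintype.card K = 8 ^ a := by
    rw [hK, ← pow_mul, mul_comm, pow_mul]
    norm_num
  obtain ⟨σ, h1, h2, h3, h4⟩ := HexModel.Main.exists_sigma ha h8
  have h5 : (2 : K) = 0 := HexModel.Main.two_eq_zero (n := a * 3) (by rw [hK, pow_mul])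
  have h6 := (HexModel.Main.d4_hexTwo h1 h5 h2).map e.symm.toMonoidHom e.symm.injective fun _ _ _ => rfl
  refine ⟨_, _, _, _, loc h6 ?_ h3 h4 (by rw [Nat.card_eq_fintype_card, hK])⟩
  rw [AA, map_gen e.symm.toMonoidHom fun _ _ _ => rfl]
  exact (congrArg _ (HexModel.Main.d4_top h1 h5)).trans (Subgroup.map_top_of_surjective _ e.symm.surjective)

end Cfsg.Agent.SM.D4
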